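import Groth.Agent.S7634
import Groth.Agent.Lib.Omega26.Basic
import Groth.Agent.Lib.Fitting26.Sheaf
import Groth.Agent.Lib.Fitting.More
import Groth.Agent.Lib.ProjSpace.Basic
import Mathlib.RingTheory.Smooth.StandardSmoothCotangent
import Mathlib.AlgebraicGeometry.Morphisms.Smooth

/-!
Fitting ideals of the differentials and embeddings into smooth schemes.
-/

universe u

open CategoryTheory CategoryTheory.Limits AlgebraicGeometry
open scoped TensorProduct

namespace Groth.Agent.FitSmooth14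

/-- A quotient of a standard smooth algebra of relative dimension `p` has unit `p`-th Fitting ideal
of differentials. -/
theorem fitting_eq_top_of_surjective {A D B : Type u} [CommRing A] [CommRing D] [CommRing B]
    [Algebra A D] [Algebra A B] (p : ℕ) [Algebra.IsStandardSmoothOfRelativeDimension p A D]
    (φ : D →ₐ[A] B) (hφ : Function.Surjective φ) :
    Fitt.ideal B Ω[B⁄A] p = ⊤ := by
  rcases subsingleton_or_nontrivial B with h | h
  · exact Subsingleton.elim _ _
  · haveI : Nontrivial D := φ.toRingHom.domain_nontrivial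
    haveI : Algebra.IsStandardSmooth A D :=
      Algebra.IsStandardSmoothOfRelativeDimension.isStandardSmooth p
    have hr : Module.finrank D Ω[D⁄A] = p := Module.finrank_eq_of_rank_eq
      (Algebra.IsStandardSmoothOfRelativeDimension.rank_kaehlerDifferential p)
    let b := Module.finBasisOfFinrankEq D Ω[D⁄A] hr
    algebraize [φ.toRingHom]
    haveI : IsScalarTower A D B := IsScalarTower.of_algebraMap_eq fun a => (φ.commutes a).symm
    refine FittingLib.ideal_eq_top_of_span
      (fun i => KaehlerDifferential.map A A D B (b i)) ?_ le_rfl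
    refine eq_top_iff.mpr fun z _ => ?_
    obtain ⟨w, rfl⟩ := KaehlerDifferential.map_surjective_of_surjective A A D B hφ z
    have hw := Submodule.mem_map_of_mem (f := KaehlerDifferential.map A A D B)
      (b.mem_span w)
    rw [Submodule.map_span, ← Set.range_comp] at hw
    exact Submodule.span_le_restrictScalars D B _ hw

/-- Enlarging the relative dimension of a standard smooth cover by polynomial variables. -/
theorem exists_standardSmooth_surjective_of_le {A D B : Type u} [CommRing A] [CommRing D]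
    [CommRing B] [Algebra A D] [Algebra A B] {r p : ℕ} (hrp : r ≤ p)
    [Algebra.IsStandardSmoothOfRelativeDimension r A D] (φ : D →ₐ[A] B)
    (hφ : Function.Surjective φ) :
    ∃ (D' : Type u) (_ : CommRing D') (_ : Algebra A D'),
      Algebra.IsStandardSmoothOfRelativeDimension p A D' ∧
        ∃ ψ : D' →ₐ[A] B, Function.Surjective ψ := by
  haveI := Groth.Agent.ProjSpace.isStandardSmoothOfRelativeDimension_mvPolynomial D
    (σ := Fin (p - r))
  refine ⟨MvPolynomial (Fin (p - r)) D, inferInstance, inferInstance, ?_,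
    φ.comp ((MvPolynomial.aeval fun _ => (0 : D)).restrictScalars A), ?_⟩
  · have h := Algebra.IsStandardSmoothOfRelativeDimension.trans (R := A) (n := r)
      (m := Nat.card (Fin (p - r))) (S := D) (T := MvPolynomial (Fin (p - r)) D)
    rwa [Nat.card_eq_fintype_card, Fintype.card_fin, Nat.sub_add_cancel hrp] at h
  · intro b
    obtain ⟨d, rfl⟩ := hφ b
    exact ⟨MvPolynomial.C d, by simp⟩

variable {X Y : Scheme.{u}} (f : X ⟶ Y) [QuasiSeparated f]

theorem notMem_support_of_embedding [LocallyOfFiniteType f] (p : ℕ) {x : X} (U : X.Opens)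
    (U' : Scheme.{u}) (i : (U : Scheme.{u}) ⟶ U') (g : U' ⟶ Y) (hx : x ∈ U) [IsClosedImmersion i]
    [SmoothOfRelativeDimension p g] (w : i ≫ g = U.ι ≫ f) :
    x ∉ (Fitt.sheafIdeal (Omega.sheaf f) p).support := by
  obtain ⟨V, hV, V', hV', hxV', e, hstd⟩ :=
    SmoothOfRelativeDimension.exists_isStandardSmoothOfRelativeDimension (n := p) (f := g)
      (i ⟨x, hx⟩)
  let W0 : (U : Scheme.{u}).Opens := i ⁻¹ᵁ V'
  have hW0 : IsAffineOpen W0 := hV'.preimage i
  let W : X.Opens := U.ι ''ᵁ W0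
  have hW : IsAffineOpen W := hW0.image_of_isOpenImmersion U.ι
  have hxW : x ∈ W := ⟨⟨x, hx⟩, hxV', rfl⟩
  have hle0 : W0 ≤ (U.ι ≫ f) ⁻¹ᵁ V := by rw [← w]; exact fun _ h => e h
  have hle : W ≤ f ⁻¹ᵁ V := by
    rintro _ ⟨u, hu, rfl⟩
    exact hle0 hu
  let φ0 : Γ(U', V') ⟶ Γ(X, W) := i.app V'
  have hfac : g.appLE V V' e ≫ φ0 = f.appLE V W hle := by
    have h1 : g.appLE V V' e ≫ i.app V' = (U.ι ≫ f).appLE V W0 hle0 := by
      rw [Scheme.Hom.app_eq_appLE, Scheme.Hom.appLE_comp_appLE]
      simp only [w]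
      rfl
    refine h1.trans ?_
    rw [← Scheme.Hom.appLE_comp_appLE U.ι f V W W0 hle (by simp [W]),
      Scheme.Opens.ι_appLE]
    exact (congrArg (f.appLE V W hle ≫ ·) (X.presheaf.map_id _)).trans (Category.comp_id _)
  algebraize [(g.appLE V V' e).hom, (f.appLE V W hle).hom]
  haveI : Algebra.IsStandardSmoothOfRelativeDimension p Γ(Y, V) Γ(U', V') := hstd
  haveI : Algebra.FiniteType Γ(Y, V) Γ(X, W) := f.finiteType_appLE hV hW hle
  let φ : Γ(U', V') →ₐ[Γ(Y, V)] Γ(X, W) :=
    ⟨φ0.hom, fun c => CategoryTheory.congr_fun hfac c⟩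
  have htop := fitting_eq_top_of_surjective p φ (i.app_surjective V' hV')
  rw [Fitting26.mem_support_iff (Omega26.isQCoh f) (Omega26.isFT f) p hW hxW,
    ← FittingLib.ideal_congr (Omega26.sectEquiv f hW hV hle) p, htop, top_le_iff]
  exact (hW.primeIdealOf ⟨x, hxW⟩).isPrime.ne_top

theorem exists_embedding_of_notMem_support [LocallyOfFiniteType f] (p : ℕ) {x : X}
    (hx : x ∉ (Fitt.sheafIdeal (Omega.sheaf f) p).support) :
    ∃ (U : X.Opens) (U' : Scheme.{u}) (i : (U : Scheme.{u}) ⟶ U') (g : U' ⟶ Y),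
        x ∈ U ∧ IsClosedImmersion i ∧ SmoothOfRelativeDimension p g ∧ i ≫ g = U.ι ≫ f := by
  obtain ⟨V, U₀, hV, hU₀, hxU₀, -, hle⟩ := Omega26.exists_chart f x ⊤ trivial
  algebraize [(f.appLE V U₀ hle).hom]
  haveI : Algebra.FiniteType Γ(Y, V) Γ(X, U₀) := f.finiteType_appLE hV hU₀ hle
  rw [Fitting26.mem_support_iff (Omega26.isQCoh f) (Omega26.isFT f) p hU₀ hxU₀,
    ← FittingLib.ideal_congr (Omega26.sectEquiv f hU₀ hV hle) p] at hx
  set q := (hU₀.primeIdealOf ⟨x, hxU₀⟩).asIdeal with hq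
  have hr := (FittingLib.not_le_iff_finrank_fiber_le (M := Ω[Γ(X, U₀)⁄Γ(Y, V)]) p q).mp hx
  obtain ⟨a, ha, D, _, _, hD, φ, hφ⟩ := Groth.Agent.S7634.result Γ(Y, V) Γ(X, U₀) q _ rfl
  have hxa : x ∈ X.basicOpen a := by
    rw [X.mem_basicOpen a x hxU₀, M1.isUnit_germ_iff hU₀ hxU₀]
    exact ha
  have hUa : IsAffineOpen (X.basicOpen a) := hU₀.basicOpen a
  have hlea : X.basicOpen a ≤ f ⁻¹ᵁ V := (X.basicOpen_le a).trans hle
  haveI := hU₀.isLocalization_basicOpen a
  letI : Algebra Γ(Y, V) Γ(X, X.basicOpen a) := (f.appLE V (X.basicOpen a) hlea).hom.toAlgebra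
  haveI : IsScalarTower Γ(Y, V) Γ(X, U₀) Γ(X, X.basicOpen a) :=
    IsScalarTower.of_algebraMap_eq fun c =>
      (CategoryTheory.congr_fun
        (Scheme.Hom.appLE_map f hle (homOfLE (X.basicOpen_le a)).op) c).symm
  let e : Localization.Away a ≃ₐ[Γ(X, U₀)] Γ(X, X.basicOpen a) :=
    IsLocalization.algEquiv (Submonoid.powers a) _ _
  obtain ⟨D', _, _, hD', ψ, hψ⟩ := exists_standardSmooth_surjective_of_le (r := _) hr
    ((e.restrictScalars Γ(Y, V)).toAlgHom.comp φ) (e.surjective.comp hφ)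
  refine ⟨X.basicOpen a, Spec (CommRingCat.of D'),
    hUa.isoSpec.hom ≫ Spec.map (CommRingCat.ofHom ψ.toRingHom),
    Spec.map (CommRingCat.ofHom (algebraMap Γ(Y, V) D')) ≫ hV.fromSpec, hxa, ?_, ?_, ?_⟩
  · haveI : IsClosedImmersion (Spec.map (CommRingCat.ofHom ψ.toRingHom)) :=
      IsClosedImmersion.spec_of_surjective _ hψ
    infer_instance
  · haveI : SmoothOfRelativeDimension p (Spec.map (CommRingCat.ofHom (algebraMap Γ(Y, V) D'))) :=
      (HasRingHomProperty.Spec_iff (P := @SmoothOfRelativeDimension p)).mpr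
        (RingHom.locally_of RingHom.isStandardSmoothOfRelativeDimension_respectsIso _
          ((RingHom.isStandardSmoothOfRelativeDimension_algebraMap p).mpr hD'))
    show SmoothOfRelativeDimension (p + 0)
      (Spec.map (CommRingCat.ofHom (algebraMap Γ(Y, V) D')) ≫ hV.fromSpec)
    infer_instance
  · rw [Category.assoc, ← Spec.map_comp_assoc, ← CommRingCat.ofHom_comp, AlgHom.toRingHom_eq_coe,
      AlgHom.comp_algebraMap]
    have hmap : CommRingCat.ofHom (algebraMap Γ(Y, V) Γ(X, X.basicOpen a)) =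
        f.appLE V (X.basicOpen a) hlea := rfl
    rw [hmap, IsAffineOpen.SpecMap_appLE_fromSpec f hV hUa hlea, ← Category.assoc,
      IsAffineOpen.fromSpec, Iso.hom_inv_id_assoc]

end Groth.Agent.FitSmooth14
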