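import Groth.Agent.S2063
import Groth.Agent.S2156
import Groth.Agent.Lib.FitSmooth14.Embed
import Groth.Agent.Lib.FibDim14.Basic
import Groth.Agent.Lib.TopDimLib.Basic
import Groth.Agent.Lib.Descend.BaseChangeAt
import Groth.Agent.Lib.DimF18.Prod

/-!
Smoothness over a field read off the Fitting ideal of the differentials.
-/

universe u

open CategoryTheory CategoryTheory.Limits AlgebraicGeometry
open scoped TensorProduct

namespace Groth.Agent.FitSmooth14

theorem localDim_eq_of_components {k : Type u} [Field k] {Z : Scheme.{u}}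
    (g : Z ⟶ Spec (CommRingCat.of k)) [LocallyOfFiniteType g] (d : ℕ)
    (hd : ∀ T ∈ irreducibleComponents ↥Z, topologicalKrullDim ↥T = d) (z : Z) :
    FlatMor.localDim Z z = (d : WithBot ℕ∞) := by
  refine le_antisymm ?_ ?_
  · refine (TopDimLib.localDim_le z).trans ?_
    rw [TopDimLib.dim_eq_iSup_components]
    exact iSup₂_le fun T hT => (hd T hT).le
  · obtain ⟨T, hT, hzT⟩ : ∃ T ∈ irreducibleComponents ↥Z, z ∈ T :=
      ⟨irreducibleComponent z, irreducibleComponent_mem_irreducibleComponents z,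
        mem_irreducibleComponent⟩
    obtain ⟨w, -, -, hw, hmax⟩ := DimF18.exists_localDim_eq_sdim g z
    have hgen : closure ({hT.1.genericPoint} : Set Z) = T :=
      hT.1.isGenericPoint_genericPoint (isClosed_of_mem_irreducibleComponents T hT)
    have hsp : hT.1.genericPoint ⤳ z := specializes_iff_mem_closure.mpr (hgen.ge hzT)
    rw [← hd T hT, hw, ← hgen, VarDim.topologicalKrullDim_closure_singleton,
      VarDim.height_eq_sdim g]
    exact_mod_cast hmax _ hsp

theorem mem_smoothLocus_iff_of_chart {Z Y : Scheme.{u}} (g : Z ⟶ Y)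
    [LocallyOfFinitePresentation g] {V : Y.Opens} (hV : IsAffineOpen V) {U : Z.Opens}
    (hU : IsAffineOpen U) (h : U ≤ g ⁻¹ᵁ V) {z : Z} (hz : z ∈ U) :
    letI := (g.appLE V U h).hom.toAlgebra
    z ∈ g.smoothLocus ↔ Algebra.IsSmoothAt Γ(Y, V) (hU.primeIdealOf ⟨z, hz⟩).asIdeal := by
  letI := (g.appLE V U h).hom.toAlgebra
  haveI : Algebra.FinitePresentation Γ(Y, V) Γ(Z, U) :=
    g.finitePresentation_appLE hV hU h
  haveI : LocallyOfFinitePresentation
      (Spec.map (CommRingCat.ofHom (algebraMap Γ(Y, V) Γ(Z, U)))) :=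
    (HasRingHomProperty.Spec_iff (P := @LocallyOfFinitePresentation)).mpr
      (RingHom.finitePresentation_algebraMap.mpr inferInstance)
  have e : hU.fromSpec ≫ g =
      Spec.map (CommRingCat.ofHom (algebraMap Γ(Y, V) Γ(Z, U))) ≫ hV.fromSpec :=
    (IsAffineOpen.SpecMap_appLE_fromSpec g hV hU h).symm
  have h1 : z ∈ g.smoothLocus ↔
      hU.primeIdealOf ⟨z, hz⟩ ∈ (hU.fromSpec ≫ g).smoothLocus := by
    rw [← Scheme.Hom.preimage_smoothLocus_eq hU.fromSpec g]
    show _ ↔ hU.fromSpec (hU.primeIdealOf ⟨z, hz⟩) ∈ g.smoothLocus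
    rw [hU.fromSpec_primeIdealOf]
  rw [h1]
  simp only [e]
  erw [Descend.mem_smoothLocus_comp_iff, Descend.mem_smoothLocus_SpecMap_iff]
  rfl

theorem localDim_primeIdealOf {Z : Scheme.{u}} {U : Z.Opens} (hU : IsAffineOpen U) {z : Z}
    (hz : z ∈ U) :
    FlatMor.localDim (PrimeSpectrum Γ(Z, U)) (hU.primeIdealOf ⟨z, hz⟩) = FlatMor.localDim Z z := by
  have h := FibDim14.localDim_of_isOpenEmbedding hU.fromSpec.isOpenEmbedding
    (hU.primeIdealOf ⟨z, hz⟩)
  rw [hU.fromSpec_primeIdealOf] at h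
  exact h

theorem mem_smoothLocus_iff_notMem_support {k : Type u} [Field k] {Z : Scheme.{u}}
    (g : Z ⟶ Spec (CommRingCat.of k)) [LocallyOfFinitePresentation g] [QuasiSeparated g] (d : ℕ)
    (z : Z) (hz : FlatMor.localDim Z z = (d : WithBot ℕ∞)) :
    z ∈ g.smoothLocus ↔ z ∉ (Fitt.sheafIdeal (Omega.sheaf g) d).support := by
  have hV : IsAffineOpen (⊤ : (Spec (CommRingCat.of k)).Opens) := isAffineOpen_top _
  obtain ⟨U, hU, hzU, -⟩ :=
    exists_isAffineOpen_mem_and_subset (x := z) (U := ⊤) (TopologicalSpace.Opens.mem_top z)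
  have hle : U ≤ g ⁻¹ᵁ ⊤ := le_top
  algebraize [(g.appLE ⊤ U hle).hom]
  haveI : Algebra.FiniteType Γ(Spec (CommRingCat.of k), ⊤) Γ(Z, U) :=
    g.finiteType_appLE hV hU hle
  letI : Field Γ(Spec (CommRingCat.of k), ⊤) :=
    ((Scheme.ΓSpecIso (CommRingCat.of k)).commRingCatIsoToRingEquiv.toMulEquiv.isField
      (Field.toIsField k)).toField
  rw [mem_smoothLocus_iff_of_chart g hV hU hle hzU,
    Fitting26.mem_support_iff (Omega26.isQCoh g) (Omega26.isFT g) d hU hzU,
    ← FittingLib.ideal_congr (Omega26.sectEquiv g hU hV hle) d,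
    FittingLib.not_le_iff_finrank_fiber_le, Groth.Agent.S2063.result,
    show (⟨(hU.primeIdealOf ⟨z, hzU⟩).asIdeal, inferInstance⟩ : PrimeSpectrum Γ(Z, U)) =
      hU.primeIdealOf ⟨z, hzU⟩ from rfl, localDim_primeIdealOf hU hzU, hz]
  norm_cast

/-- Smoothness and Fitting ideals of the differentials of a flat morphism with equidimensional
fibres. -/
theorem notMem_support_iff_mem_smoothLocus {X S : Scheme.{u}} (f : X ⟶ S) [Flat f]
    [LocallyOfFinitePresentation f] [QuasiSeparated f] (d : ℕ)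
    (hdim : ∀ s : ↥S, ∀ T ∈ irreducibleComponents ↥(f.fiber s), topologicalKrullDim ↥T = d)
    (x : X) :
    x ∉ (Fitt.sheafIdeal (Omega.sheaf f) d).support ↔ x ∈ f.smoothLocus := by
  haveI : LocallyOfFinitePresentation (f.fiberToSpecResidueField (f x)) :=
    MorphismProperty.of_isPullback (P := @LocallyOfFinitePresentation)
      (IsPullback.of_hasPullback f (S.fromSpecResidueField (f x))) inferInstance
  haveI : QuasiSeparated (f.fiberToSpecResidueField (f x)) :=
    MorphismProperty.of_isPullback (P := @QuasiSeparated)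
      (IsPullback.of_hasPullback f (S.fromSpecResidueField (f x))) inferInstance
  have hflat : (f.stalkMap x).hom.Flat := Flat.stalkMap f x
  let g : f.fiber (f x) ⟶ Spec (CommRingCat.of (S.residueField (f x))) :=
    f.fiberToSpecResidueField (f x)
  haveI : LocallyOfFinitePresentation g := ‹LocallyOfFinitePresentation (f.fiberToSpecResidueField (f x))›
  haveI : QuasiSeparated g := ‹QuasiSeparated (f.fiberToSpecResidueField (f x))›
  have key := mem_smoothLocus_iff_notMem_support g d (f.asFiber x)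
    (localDim_eq_of_components g d (hdim (f x)) _)
  refine Iff.trans ?_ ((Groth.Agent.S2156.result f x).trans (and_iff_right hflat)).symm
  refine Iff.trans ?_ key.symm
  have h := Omega26.fitting_comap f (S.fromSpecResidueField (f x)) d
  refine not_congr ?_
  have hiff := Set.ext_iff.mp (congrArg SetLike.coe (congrArg Scheme.IdealSheafData.support h))
    (f.asFiber x)
  rw [Scheme.IdealSheafData.support_comap] at hiff
  refine Iff.trans ?_ hiff
  show _ ↔ f.fiberι (f x) (f.asFiber x) ∈ (Fitt.sheafIdeal (Omega.sheaf f) d).support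
  rw [f.fiberι_asFiber]

end Groth.Agent.FitSmooth14
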