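import Mathlib.RingTheory.Smooth.Kaehler
import Mathlib.RingTheory.Etale.Kaehler
import Mathlib.RingTheory.LocalRing.Module
import Mathlib.LinearAlgebra.Dimension.OrzechProperty

/-!
The Jacobian criterion for a quotient of a formally smooth local algebra with given generators of the
kernel, in terms of generators of the differentials of the quotient.
-/

universe u

open TensorProduct KaehlerDifferential

namespace Groth.Agent.FitSmooth14

variable {A P T : Type u} [CommRing A] [CommRing P] [CommRing T] [Algebra A P] [Algebra A T]
  [Algebra P T] [IsScalarTower A P T] (hsurj : Function.Surjective (algebraMap P T))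
  {c m : ℕ} (f : Fin c → RingHom.ker (algebraMap P T))
  (hspan : Submodule.span P (Set.range f) = ⊤)

include hsurj hspan in
theorem span_sumElim_eq_top {ι : Type*} (w : ι → T ⊗[P] Ω[P⁄A])
    (hw : Submodule.span T (Set.range fun j => mapBaseChange A P T (w j)) = ⊤) :
    Submodule.span T (Set.range (Sum.elim (fun i => (1 : T) ⊗ₜ[P] D A P (f i).1) w)) = ⊤ := by
  set W := Submodule.span T (Set.range (Sum.elim (fun i => (1 : T) ⊗ₜ[P] D A P (f i).1) w))
  refine eq_top_iff.mpr fun z _ => ?_
  have hz : mapBaseChange A P T z ∈ W.map (mapBaseChange A P T) := by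
    have h1 : Submodule.span T (Set.range fun j => mapBaseChange A P T (w j)) ≤
        W.map (mapBaseChange A P T) :=
      Submodule.span_le.mpr (by
        rintro _ ⟨j, rfl⟩
        exact Submodule.mem_map_of_mem (Submodule.subset_span ⟨Sum.inr j, rfl⟩))
    exact h1 (hw.ge trivial)
  obtain ⟨z', hz', he⟩ := hz
  have hker : z - z' ∈ LinearMap.range (kerCotangentToTensor A P T) := by
    rw [range_kerCotangentToTensor A P T hsurj]
    simp [he]
  obtain ⟨x, hx⟩ := hker
  obtain ⟨x, rfl⟩ := Ideal.toCotangent_surjective _ x
  have hmem : kerCotangentToTensor A P T (Ideal.toCotangent _ x) ∈ W.restrictScalars P := by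
    have hx' : x ∈ Submodule.span P (Set.range f) := hspan.ge trivial
    have h2 := Submodule.mem_map_of_mem
      (f := (kerCotangentToTensor A P T) ∘ₗ Ideal.toCotangent (RingHom.ker (algebraMap P T))) hx'
    rw [Submodule.map_span, ← Set.range_comp] at h2
    refine Submodule.span_le.mpr ?_ h2
    rintro _ ⟨i, rfl⟩
    exact Submodule.subset_span ⟨Sum.inl i, rfl⟩
  rw [hx] at hmem
  have h3 := W.add_mem hmem hz'
  rwa [sub_add_cancel] at h3

include hsurj hspan in
/-- If the kernel has `c` generators and the differentials of the quotient `m` of them, with `c + m`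
the rank of the differentials upstairs, then the quotient is formally smooth. -/
theorem formallySmooth_of_generators [Algebra.FormallySmooth A P]
    [Nontrivial T] (b : Module.Basis (Fin (c + m)) T (T ⊗[P] Ω[P⁄A])) (w : Fin m → Ω[T⁄A])
    (hw : Submodule.span T (Set.range w) = ⊤) : Algebra.FormallySmooth A T := by
  classical
  choose w' hw' using fun j => mapBaseChange_surjective A P T hsurj (w j)
  have hsp := span_sumElim_eq_top hsurj f hspan w' (by simpa only [hw'] using hw)
  haveI : Module.Free T (T ⊗[P] Ω[P⁄A]) := .of_basis b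
  haveI : Module.Finite T (T ⊗[P] Ω[P⁄A]) := Module.Finite.of_basis b
  let v : Module.Basis (Fin c ⊕ Fin m) T (T ⊗[P] Ω[P⁄A]) :=
    basisOfTopLeSpanOfCardEqFinrank _ hsp.ge (by
      rw [Module.finrank_eq_card_basis b, Fintype.card_sum, Fintype.card_fin, Fintype.card_fin,
        Fintype.card_fin])
  let e : T ≃ₐ[P] P ⧸ RingHom.ker (algebraMap P T) :=
    (Ideal.quotientKerAlgEquivOfSurjective (f := Algebra.ofId P T) hsurj).symm
  let l : T ⊗[P] Ω[P⁄A] →ₗ[P] (RingHom.ker (algebraMap P T)).Cotangent :=
    ∑ i, ((LinearMap.toSpanSingleton (P ⧸ RingHom.ker (algebraMap P T)) _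
      (Ideal.toCotangent _ (f i))).restrictScalars P).comp
        (e.toLinearMap.comp ((v.coord (Sum.inl i)).restrictScalars P))
  refine (Algebra.FormallySmooth.iff_split_injection (R := A) (P := P) (A := T) hsurj).mpr ⟨l, ?_⟩
  apply LinearMap.ext
  intro x
  obtain ⟨x, rfl⟩ := Ideal.toCotangent_surjective _ x
  have hx : x ∈ Submodule.span P (Set.range f) := hspan.ge trivial
  induction hx using Submodule.span_induction with
  | mem y hy =>
    obtain ⟨j, rfl⟩ := hy
    have hj : (1 : T) ⊗ₜ[P] D A P (f j).1 = v (Sum.inl j) := by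
      simp only [v, coe_basisOfTopLeSpanOfCardEqFinrank]
      rfl
    rw [LinearMap.comp_apply, kerCotangentToTensor_toCotangent, hj, LinearMap.sum_apply,
      LinearMap.id_apply, Finset.sum_eq_single j]
    · simp only [LinearMap.comp_apply, LinearMap.restrictScalars_apply, Module.Basis.coord_apply,
        Module.Basis.repr_self, Finsupp.single_eq_same]
      show e 1 • Ideal.toCotangent _ (f j) = _
      rw [map_one, one_smul]
    · intro i _ hij
      simp [hij.symm]
    · simp
  | zero => simp
  | add y z _ _ hy hz => simp only [map_add, hy, hz]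
  | smul a y _ hy => simp only [map_smul, hy]

include hsurj hspan in
/-- Conversely, if the quotient is formally smooth and the kernel generators are independent modulo
its square, the differentials of the quotient are generated by the expected number of elements. -/
theorem exists_generators_of_formallySmooth [Algebra.FormallySmooth A P] [Algebra.FormallySmooth A T]
    [Nontrivial T] (b : Module.Basis (Fin (c + m)) T (T ⊗[P] Ω[P⁄A]))
    [Module.Free T Ω[T⁄A]] [Module.Finite T Ω[T⁄A]]
    (hrel : ∀ a : Fin c → P, (∑ i, a i * (f i).1) ∈ RingHom.ker (algebraMap P T) ^ 2 →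
      ∀ i, a i ∈ RingHom.ker (algebraMap P T)) :
    ∃ w : Fin m → Ω[T⁄A], Submodule.span T (Set.range w) = ⊤ := by
  classical
  obtain ⟨l, hl⟩ := (Algebra.FormallySmooth.iff_split_injection (R := A) (P := P) (A := T) hsurj).mp
    inferInstance
  let s := Module.finrank T Ω[T⁄A]
  let bT : Module.Basis (Fin s) T Ω[T⁄A] := Module.finBasis T Ω[T⁄A]
  choose w' hw' using fun j => mapBaseChange_surjective A P T hsurj (bT j)
  have hsp := span_sumElim_eq_top hsurj f hspan w' (by simpa only [hw'] using bT.span_eq)
  have hv : ∀ i, mapBaseChange A P T ((1 : T) ⊗ₜ[P] D A P (f i).1) = 0 := fun i => by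
    rw [mapBaseChange_tmul, map_D, RingHom.mem_ker.mp (f i).2, map_zero, smul_zero]
  have hli : LinearIndependent T (Sum.elim (fun i => (1 : T) ⊗ₜ[P] D A P (f i).1) w') := by
    rw [Fintype.linearIndependent_iff]
    intro a ha
    rw [Fintype.sum_sum_type] at ha
    have h1 := congrArg (mapBaseChange A P T) ha
    simp only [Sum.elim_inl, Sum.elim_inr, map_add, map_sum, map_smul, hv, smul_zero,
      Finset.sum_const_zero, zero_add, hw', map_zero] at h1
    have hb := Fintype.linearIndependent_iff.mp bT.linearIndependent _ h1
    have h2 : ∑ i, a (Sum.inl i) • ((1 : T) ⊗ₜ[P] D A P (f i).1) = 0 := by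
      simpa [hb] using ha
    choose a' ha' using fun i => hsurj (a (Sum.inl i))
    have h3 : l (kerCotangentToTensor A P T (Ideal.toCotangent _ (∑ i, a' i • f i))) = 0 := by
      rw [← map_zero l]
      congr 1
      rw [← h2]
      simp only [map_sum, map_smul, kerCotangentToTensor_toCotangent]
      refine Finset.sum_congr rfl fun i _ => ?_
      rw [← ha', algebraMap_smul]
    rw [← LinearMap.comp_apply, hl, LinearMap.id_apply, Ideal.toCotangent_eq_zero,
      AddSubmonoidClass.coe_finset_sum] at h3
    have h4 := hrel a' (by simpa using h3)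
    rintro (i | j)
    · rw [← ha' i]
      exact RingHom.mem_ker.mp (h4 i)
    · exact hb j
  have hcard : c + s = c + m := by
    have h := Module.finrank_eq_card_basis (Module.Basis.mk hli hsp.ge)
    rw [Module.finrank_eq_card_basis b] at h
    simpa using h.symm
  obtain rfl : s = m := Nat.add_left_cancel hcard
  exact ⟨bT, bT.span_eq⟩

end Groth.Agent.FitSmooth14
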