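import Mathlib.RingTheory.Localization.Ideal
import Mathlib.RingTheory.Localization.Integer

/-!
Surjections, their kernels and relations among generators of an ideal under localisation.
-/

universe u

namespace Groth.Agent.FitSmooth14

variable {C B C' B' : Type u} [CommRing C] [CommRing B] [CommRing C'] [CommRing B']
  [Algebra C C'] [Algebra B B'] (ψ : C →+* B) (hψ : Function.Surjective ψ) (ψ' : C' →+* B')
  (hcomm : ψ'.comp (algebraMap C C') = (algebraMap B B').comp ψ)

include hψ hcomm in
theorem surjective_of_localization (M : Submonoid C) [IsLocalization M C']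
    [IsLocalization (M.map ψ) B'] : Function.Surjective ψ' := by
  intro x
  obtain ⟨⟨b, s⟩, hx⟩ := IsLocalization.surj (M.map ψ) x
  obtain ⟨t, ht, hts⟩ := s.2
  obtain ⟨a, rfl⟩ := hψ b
  refine ⟨IsLocalization.mk' C' a ⟨t, ht⟩, ?_⟩
  have hc : ∀ z, ψ' (algebraMap C C' z) = algebraMap B B' (ψ z) := RingHom.congr_fun hcomm
  refine (IsLocalization.map_units B' s).mul_right_cancel ?_
  rw [hx, ← hts, ← hc, ← hc, ← map_mul, IsLocalization.mk'_spec]

include hcomm in
theorem ker_of_localization (M : Submonoid C) [IsLocalization M C']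
    [IsLocalization (M.map ψ) B'] :
    RingHom.ker ψ' = (RingHom.ker ψ).map (algebraMap C C') := by
  have hc : ∀ z, ψ' (algebraMap C C' z) = algebraMap B B' (ψ z) := RingHom.congr_fun hcomm
  refine le_antisymm (fun x hx => ?_) (Ideal.map_le_iff_le_comap.mpr fun a ha => ?_)
  · obtain ⟨⟨a, s⟩, has⟩ := IsLocalization.surj M x
    have h0 : algebraMap B B' (ψ a) = algebraMap B B' 0 := by
      rw [← hc, ← has, map_mul, RingHom.mem_ker.mp hx, zero_mul, map_zero]
    obtain ⟨⟨_, t, ht, rfl⟩, he⟩ := (IsLocalization.eq_iff_exists (M.map ψ) B').mp h0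
    have hta : t * a ∈ RingHom.ker ψ := by
      rw [RingHom.mem_ker, map_mul]
      simpa using he
    have h1 := Ideal.mem_map_of_mem (algebraMap C C') hta
    rw [map_mul, ← has] at h1
    have hu : IsUnit (algebraMap C C' t * algebraMap C C' s) :=
      (IsLocalization.map_units C' (⟨t, ht⟩ : M)).mul (IsLocalization.map_units C' s)
    rw [show algebraMap C C' t * (x * algebraMap C C' s) =
      (algebraMap C C' t * algebraMap C C' s) * x by ring] at h1
    exact (Ideal.unit_mul_mem_iff_mem _ hu).mp h1
  · rw [Ideal.mem_comap, RingHom.mem_ker, hc, RingHom.mem_ker.mp ha, map_zero]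

omit [Algebra B B'] in
/-- Relations modulo the square of an ideal localise. -/
theorem relations_of_localization (M : Submonoid C) [IsLocalization M C'] (J : Ideal C) {c : ℕ} (f : Fin c → C)
    (hrel : ∀ a : Fin c → C, (∑ i, a i * f i) ∈ J ^ 2 → ∀ i, a i ∈ J) (a : Fin c → C')
    (ha : (∑ i, a i * algebraMap C C' (f i)) ∈ J.map (algebraMap C C') ^ 2) (i : Fin c) :
    a i ∈ J.map (algebraMap C C') := by
  obtain ⟨s, hs⟩ := IsLocalization.exist_integer_multiples_of_finite M a
  choose b hb using hs
  have h1 : algebraMap C C' (∑ i, b i * f i) ∈ (J ^ 2).map (algebraMap C C') := by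
    rw [Ideal.map_pow, map_sum]
    have h2 := Ideal.mul_mem_left _ (algebraMap C C' s) ha
    rw [Finset.mul_sum] at h2
    convert h2 using 1
    refine Finset.sum_congr rfl fun i _ => ?_
    rw [map_mul, hb, Algebra.smul_def, mul_assoc]
  obtain ⟨⟨⟨y, hy⟩, u⟩, hyu⟩ := (IsLocalization.mem_map_algebraMap_iff M C').mp h1
  rw [← map_mul] at hyu
  obtain ⟨t, ht⟩ := (IsLocalization.eq_iff_exists M C').mp hyu
  have h3 : ∑ i, ((t : C) * u * b i) * f i ∈ J ^ 2 := by
    have : ∑ i, ((t : C) * u * b i) * f i = (t : C) * y := by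
      rw [← ht, Finset.sum_mul, Finset.mul_sum]
      exact Finset.sum_congr rfl fun i _ => by ring
    rw [this]
    exact Ideal.mul_mem_left _ _ hy
  have h4 := Ideal.mem_map_of_mem (algebraMap C C') (hrel _ h3 i)
  rw [map_mul, map_mul, hb, Algebra.smul_def, ← mul_assoc] at h4
  exact (Ideal.unit_mul_mem_iff_mem _ (((IsLocalization.map_units C' t).mul
    (IsLocalization.map_units C' u)).mul (IsLocalization.map_units C' s))).mp h4

end Groth.Agent.FitSmooth14
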