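import Groth.Agent.Lib.FitSmooth14.Jacobian
import Groth.Agent.Lib.FitSmooth14.Loc
import Groth.Agent.Lib.Fitting.More
import Groth.Agent.Lib.Fitting.Local
import Mathlib.RingTheory.Smooth.StandardSmoothCotangent
import Mathlib.RingTheory.Smooth.Locus

/-!
Smoothness of a quotient of a standard smooth algebra by an ideal with independent generators.
-/

universe u

open TensorProduct KaehlerDifferential

namespace Groth.Agent.FitSmooth14

/-- A quotient of a standard smooth algebra of relative dimension `m + c` by an ideal with `c`
generators independent modulo the square is smooth at a prime iff the `m`-th Fitting ideal of its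
differentials is not contained in it. -/
theorem isSmoothAt_iff_fitting {A C B : Type u} [CommRing A] [CommRing C] [CommRing B] [Algebra A C]
    [Algebra A B] {m c : ℕ} [Algebra.IsStandardSmoothOfRelativeDimension (m + c) A C]
    (ψ : C →ₐ[A] B) (hψ : Function.Surjective ψ) (f : Fin c → C)
    (hspan : RingHom.ker ψ.toRingHom = Ideal.span (Set.range f))
    (hrel : ∀ a : Fin c → C, (∑ i, a i * f i) ∈ RingHom.ker ψ.toRingHom ^ 2 →
      ∀ i, a i ∈ RingHom.ker ψ.toRingHom)
    (Q : Ideal B) [Q.IsPrime] :
    Algebra.IsSmoothAt A Q ↔ ¬ Fitt.ideal B Ω[B⁄A] m ≤ Q := by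
  haveI : Algebra.IsStandardSmooth A C :=
    Algebra.IsStandardSmoothOfRelativeDimension.isStandardSmooth (m + c)
  haveI : Algebra.FiniteType A B :=
    (inferInstance : Algebra.FiniteType A C).of_surjective ψ hψ
  let q : Ideal C := Q.comap ψ.toRingHom
  haveI : q.IsPrime := Ideal.IsPrime.comap _
  haveI : Nontrivial C := ⟨0, 1, fun h => (Ideal.IsPrime.ne_top ‹q.IsPrime›)
    ((Ideal.eq_top_iff_one q).mpr (h ▸ q.zero_mem))⟩
  let P := Localization.AtPrime q
  let T := Localization.AtPrime Q
  let r : P →+* T := Localization.localRingHom q Q ψ.toRingHom rfl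
  letI : Algebra P T := r.toAlgebra
  haveI : IsScalarTower A P T := IsScalarTower.of_algebraMap_eq fun a => by
    show algebraMap A T a = r (algebraMap A P a)
    rw [IsScalarTower.algebraMap_apply A C P, Localization.localRingHom_to_map,
      IsScalarTower.algebraMap_apply A B T]
    exact congrArg _ (ψ.commutes a).symm
  have hmap : q.primeCompl.map ψ.toRingHom = Q.primeCompl := by
    refine le_antisymm ?_ fun b hb => ?_
    · rintro _ ⟨a, ha, rfl⟩; exact ha
    · obtain ⟨a, rfl⟩ := hψ b; exact ⟨a, hb, rfl⟩
  haveI : IsLocalization (q.primeCompl.map ψ.toRingHom) T := by rw [hmap]; infer_instance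
  have hcomm : r.comp (algebraMap C P) = (algebraMap B T).comp ψ.toRingHom :=
    RingHom.ext fun x => Localization.localRingHom_to_map q Q ψ.toRingHom rfl x
  have hsurj : Function.Surjective (algebraMap P T) :=
    surjective_of_localization ψ.toRingHom hψ r hcomm q.primeCompl
  have hker : RingHom.ker (algebraMap P T) =
      (RingHom.ker ψ.toRingHom).map (algebraMap C P) :=
    ker_of_localization ψ.toRingHom r hcomm q.primeCompl
  let fP : Fin c → RingHom.ker (algebraMap P T) := fun i =>
    ⟨algebraMap C P (f i), hker ▸ Ideal.mem_map_of_mem _ (hspan ▸ Ideal.subset_span ⟨i, rfl⟩)⟩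
  have hfP : Submodule.span P (Set.range fP) = ⊤ := by
    refine Submodule.map_injective_of_injective (RingHom.ker (algebraMap P T)).injective_subtype ?_
    rw [Submodule.map_span, ← Set.range_comp, Submodule.map_subtype_top]
    show Submodule.span P (Set.range fun i => algebraMap C P (f i)) = _
    rw [hker, hspan, Ideal.map_span, ← Set.range_comp]
    rfl
  haveI : Algebra.FormallyEtale C P := Algebra.FormallyEtale.of_isLocalization q.primeCompl
  haveI : Algebra.FormallySmooth A P := Algebra.FormallySmooth.comp A C P
  letI : Algebra C T := ((algebraMap B T).comp ψ.toRingHom).toAlgebra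
  haveI : IsScalarTower C P T := IsScalarTower.of_algebraMap_eq fun z =>
    (RingHom.congr_fun hcomm z).symm
  have hn : Module.finrank C Ω[C⁄A] = c + m := (add_comm m c) ▸
    Module.finrank_eq_of_rank_eq
      (Algebra.IsStandardSmoothOfRelativeDimension.rank_kaehlerDifferential (R := A) (S := C) (m + c))
  let b0 := Module.finBasisOfFinrankEq C Ω[C⁄A] hn
  let b : Module.Basis (Fin (c + m)) T (T ⊗[P] Ω[P⁄A]) :=
    ((Algebra.TensorProduct.basis T b0).map
      (TensorProduct.AlgebraTensorModule.cancelBaseChange C P T T Ω[C⁄A]).symm).map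
      (TensorProduct.AlgebraTensorModule.congr (LinearEquiv.refl T T)
        (KaehlerDifferential.tensorKaehlerEquivOfFormallyEtale A C P))
  rw [FittingLib.not_le_iff_exists_smul_mem_span]
  constructor
  · intro h
    haveI : Algebra.FormallySmooth A T := h
    haveI : Module.Finite T Ω[T⁄A] :=
      Module.Finite.of_isLocalizedModule Q.primeCompl (KaehlerDifferential.map A A B T)
    haveI : Module.Free T Ω[T⁄A] := Module.free_of_flat_of_isLocalRing
    obtain ⟨w, hw⟩ := exists_generators_of_formallySmooth (m := m) hsurj fP hfP b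
      (fun a ha => by
        change (∑ i, a i * algebraMap C P (f i)) ∈ RingHom.ker (algebraMap P T) ^ 2 at ha
        rw [hker] at ha ⊢
        exact relations_of_localization q.primeCompl (RingHom.ker ψ.toRingHom) f hrel a ha)
    obtain ⟨s, g', hg'⟩ := FittingLib.exists_smul_mem_span_of_span_localized Q.primeCompl T
      (KaehlerDifferential.map A A B T) w hw
    exact ⟨s, g', s.2, hg'⟩
  · rintro ⟨u, g', hu, hg'⟩
    exact formallySmooth_of_generators hsurj fP hfP b _
      (FittingLib.span_localized_eq_top Q.primeCompl T (KaehlerDifferential.map A A B T) g' u hu hg')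

end Groth.Agent.FitSmooth14
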