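import Groth.Agent.S18939
import Groth.Agent.Lib.FitSmooth14.Lci
import Groth.Agent.Lib.FitSmooth14.Field
import Groth.Agent.Lib.SmCoord14.Main
import Groth.Prelude.Def_RegImm

/-!
Smoothness of a complete intersection morphism read off the Fitting ideal of the differentials.
-/

universe u

open CategoryTheory CategoryTheory.Limits AlgebraicGeometry

namespace Groth.Agent.FitSmooth14

/-- A Koszul-regular sequence generating a proper ideal has independent classes. -/
theorem relations_of_koszul {R : Type u} [CommRing R] (J : Ideal R) (hJ : J ≠ ⊤) {c : ℕ}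
    (f : Fin c → R) (hspan : J = Ideal.span (Set.range f))
    (hk : LCI.IsKoszulRegularSeq R (List.ofFn f)) (a : Fin c → R) (ha : (∑ i, a i * f i) ∈ J ^ 2)
    (i : Fin c) : a i ∈ J := by
  let f' : Fin c → J := fun i => ⟨f i, hspan ▸ Ideal.subset_span ⟨i, rfl⟩⟩
  obtain ⟨b, hb⟩ := Groth.Agent.S18939.result hJ c f' hk hspan.symm
  have h0 : ∑ i, Ideal.Quotient.mk J (a i) • b i = 0 := by
    have h1 : J.toCotangent (∑ i, a i • f' i) = 0 := by
      rw [Ideal.toCotangent_eq_zero, AddSubmonoidClass.coe_finsetSum]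
      simpa [f'] using ha
    rw [← h1, map_sum]
    refine Finset.sum_congr rfl fun i _ => ?_
    rw [hb, map_smul]
    rfl
  exact Ideal.Quotient.eq_zero_iff_mem.mp
    (Fintype.linearIndependent_iff.mp b.linearIndependent _ h0 i)

variable {X Y : Scheme.{u}} (f : Y ⟶ X) [LocallyOfFinitePresentation f] [QuasiSeparated f]

theorem mem_smoothLocus_iff_notMem_support_of_lci (m : ℕ) (y : Y) (U : Y.Opens) (P : Scheme.{u})
    (i : (U : Scheme.{u}) ⟶ P) (π : P ⟶ X) (c : ℕ) (hy : y ∈ U)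
    (hi : RegImm.IsRegularImmersionOfCodim RegImm.Kind.koszul c i)
    [SmoothOfRelativeDimension (m + c) π] (w : i ≫ π = U.ι ≫ f) :
    y ∈ f.smoothLocus ↔ y ∉ (Fitt.sheafIdeal (Omega.sheaf f) m).support := by
  obtain ⟨UP, hyP, hcl, rs, hlen, hkz, hkerP⟩ := hi.2 ⟨y, hy⟩
  obtain ⟨V, hV, W0, hW0, hyW0, e0, hstd⟩ :=
    SmoothOfRelativeDimension.exists_isStandardSmoothOfRelativeDimension (n := m + c) (f := π)
      (i ⟨y, hy⟩)
  obtain ⟨a, b, hab, hya⟩ := exists_basicOpen_le_affine_inter UP.2 hW0 (i ⟨y, hy⟩) ⟨hyP, hyW0⟩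
  let W : P.Opens := P.basicOpen a
  have hW : IsAffineOpen W := UP.2.basicOpen a
  -- the sections over `UP`
  haveI : IsClosedImmersion (i ∣_ UP.1) := hcl
  haveI : IsAffine (UP.1 : Scheme.{u}) := UP.2
  have hU1 : IsAffineOpen (i ⁻¹ᵁ UP.1) := (isAffine_of_isAffineHom (i ∣_ UP.1) : IsAffine _)
  have hsq : (i ∣_ UP.1).appTop =
      UP.1.topIso.hom ≫ i.app UP.1 ≫ (i ⁻¹ᵁ UP.1).topIso.inv := by
    rw [← Scheme.Hom.resLE_eq_morphismRestrict, Scheme.Hom.app_eq_appLE]
    exact Scheme.Hom.resLE_app_top i le_rfl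
  have hψ0 : Function.Surjective (i.app UP.1).hom := by
    intro z
    obtain ⟨t, ht⟩ := (i ∣_ UP.1).app_surjective ⊤ (isAffineOpen_top _)
      ((i ⁻¹ᵁ UP.1).topIso.inv z)
    refine ⟨UP.1.topIso.hom t, ?_⟩
    refine (i ⁻¹ᵁ UP.1).topIso.symm.commRingCatIsoToRingEquiv.injective ?_
    exact (CategoryTheory.congr_fun hsq t).symm.trans ht
  subst hlen
  have hker0 : RingHom.ker (i.app UP.1).hom = Ideal.span (Set.range rs.get) := by
    rw [hkerP, Set.range_list_get]
  have hne : RingHom.ker (i.app UP.1).hom ≠ ⊤ := fun h =>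
    (hU1.primeIdealOf ⟨⟨y, hy⟩, hyP⟩).isPrime.ne_top ((Ideal.eq_top_iff_one _).mpr (by
      have h1 : (i.app UP.1).hom 1 = 0 := RingHom.mem_ker.mp (h ▸ Submodule.mem_top)
      rw [map_one] at h1
      rw [h1]
      exact zero_mem _))
  have hrel0 := relations_of_koszul _ hne rs.get hker0 (by rw [List.ofFn_get]; exact hkz)
  -- passing to `W`
  have hW1 : IsAffineOpen (i ⁻¹ᵁ W) := by
    rw [Scheme.preimage_basicOpen]
    exact hU1.basicOpen _
  letI : Algebra Γ(P, UP.1) Γ(P, W) :=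
    (P.presheaf.map (homOfLE (P.basicOpen_le a)).op).hom.toAlgebra
  letI : Algebra Γ((U : Scheme.{u}), i ⁻¹ᵁ UP.1) Γ((U : Scheme.{u}), i ⁻¹ᵁ W) :=
    ((U : Scheme.{u}).presheaf.map (homOfLE fun _ h => P.basicOpen_le a h).op).hom.toAlgebra
  haveI : IsLocalization (Submonoid.powers a) Γ(P, W) := UP.2.isLocalization_basicOpen a
  haveI : IsLocalization ((Submonoid.powers a).map (i.app UP.1).hom)
      Γ((U : Scheme.{u}), i ⁻¹ᵁ W) := by
    rw [Submonoid.map_powers]
    exact hU1.isLocalization_of_eq_basicOpen ((i.app UP.1).hom a) _ (Scheme.preimage_basicOpen i a)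
  have hcomm : (i.app W).hom.comp (algebraMap Γ(P, UP.1) Γ(P, W)) =
      (algebraMap Γ((U : Scheme.{u}), i ⁻¹ᵁ UP.1) Γ((U : Scheme.{u}), i ⁻¹ᵁ W)).comp
        (i.app UP.1).hom :=
    congrArg CommRingCat.Hom.hom (i.naturality (homOfLE (P.basicOpen_le a)).op)
  have hψ : Function.Surjective (i.app W).hom :=
    surjective_of_localization (i.app UP.1).hom hψ0 (i.app W).hom hcomm (Submonoid.powers a)
  have hker : RingHom.ker (i.app W).hom =
      (RingHom.ker (i.app UP.1).hom).map (algebraMap Γ(P, UP.1) Γ(P, W)) :=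
    ker_of_localization (i.app UP.1).hom (i.app W).hom hcomm (Submonoid.powers a)
  -- the chart of `Y`
  let WY : Y.Opens := U.ι ''ᵁ (i ⁻¹ᵁ W)
  have hWY : IsAffineOpen WY := hW1.image_of_isOpenImmersion U.ι
  have hyWY : y ∈ WY := ⟨⟨y, hy⟩, hya, rfl⟩
  have eW : W ≤ π ⁻¹ᵁ V := fun z hz => e0 (P.basicOpen_le b (by
    have hz' : z ∈ P.basicOpen a := hz
    rwa [hab] at hz'))
  have hle0 : i ⁻¹ᵁ W ≤ (U.ι ≫ f) ⁻¹ᵁ V := by rw [← w]; exact fun _ h => eW h
  have hle : WY ≤ f ⁻¹ᵁ V := by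
    rintro _ ⟨z, hz, rfl⟩
    exact hle0 hz
  let ψ0 : Γ(P, W) ⟶ Γ(Y, WY) := i.app W
  have hfac : π.appLE V W eW ≫ ψ0 = f.appLE V WY hle := by
    have h1 : π.appLE V W eW ≫ i.app W = (U.ι ≫ f).appLE V (i ⁻¹ᵁ W) hle0 := by
      rw [Scheme.Hom.app_eq_appLE, Scheme.Hom.appLE_comp_appLE]
      simp only [w]
    refine h1.trans ?_
    rw [← Scheme.Hom.appLE_comp_appLE U.ι f V WY (i ⁻¹ᵁ W) hle (by simp [WY]),
      Scheme.Opens.ι_appLE]
    exact (congrArg (f.appLE V WY hle ≫ ·) (Y.presheaf.map_id _)).trans (Category.comp_id _)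
  have hstdW : RingHom.IsStandardSmoothOfRelativeDimension (m + rs.length)
      (π.appLE V W eW).hom := by
    algebraize [(π.appLE V W0 e0).hom, (π.appLE V W eW).hom]
    haveI : Algebra.IsStandardSmoothOfRelativeDimension (m + rs.length) Γ(X, V) Γ(P, W0) := hstd
    have hWb : W ≤ W0 := hab.le.trans (P.basicOpen_le b)
    letI : Algebra Γ(P, W0) Γ(P, W) := (P.presheaf.map (homOfLE hWb).op).hom.toAlgebra
    haveI : IsScalarTower Γ(X, V) Γ(P, W0) Γ(P, W) := IsScalarTower.of_algebraMap_eq fun z =>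
      (CategoryTheory.congr_fun (Scheme.Hom.appLE_map π e0 (homOfLE hWb).op) z).symm
    haveI : IsLocalization.Away b Γ(P, W) :=
      hW0.isLocalization_of_eq_basicOpen b _ hab
    haveI : Algebra.IsStandardSmoothOfRelativeDimension 0 Γ(P, W0) Γ(P, W) :=
      Algebra.IsStandardSmoothOfRelativeDimension.localization_away b
    have h := Algebra.IsStandardSmoothOfRelativeDimension.trans (R := Γ(X, V)) (n := m + rs.length)
      (m := 0) (S := Γ(P, W0)) (T := Γ(P, W))
    rw [Nat.zero_add] at h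
    exact h
  algebraize [(π.appLE V W eW).hom, (f.appLE V WY hle).hom]
  haveI : Algebra.IsStandardSmoothOfRelativeDimension (m + rs.length) Γ(X, V) Γ(P, W) := hstdW
  haveI : Algebra.FiniteType Γ(X, V) Γ(Y, WY) := f.finiteType_appLE hV hWY hle
  let ψ : Γ(P, W) →ₐ[Γ(X, V)] Γ(Y, WY) :=
    ⟨ψ0.hom, fun z => CategoryTheory.congr_fun hfac z⟩
  have key := isSmoothAt_iff_fitting (m := m) (c := rs.length) ψ hψ
    (fun j => algebraMap Γ(P, UP.1) Γ(P, W) (rs.get j))
    (hker.trans (by rw [hker0, Ideal.map_span, ← Set.range_comp]; rfl))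
    (fun z hz => by
      have hz' : (∑ j, z j * algebraMap Γ(P, UP.1) Γ(P, W) (rs.get j)) ∈
          RingHom.ker (i.app W).hom ^ 2 := hz
      rw [hker] at hz'
      exact fun j => hker.ge
        (relations_of_localization (Submonoid.powers a) _ rs.get hrel0 z hz' j))
    (hWY.primeIdealOf ⟨y, hyWY⟩).asIdeal
  rw [mem_smoothLocus_iff_of_chart f hV hWY hle hyWY,
    Fitting26.mem_support_iff (Omega26.isQCoh f) (Omega26.isFT f) m hWY hyWY,
    ← FittingLib.ideal_congr (Omega26.sectEquiv f hWY hV hle) m]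
  exact key

end Groth.Agent.FitSmooth14
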